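import Cfsg.Agent.H106.QT.Base
import Cfsg.Agent.H378.WL.E6

/-!
# S3509: tables for `E₆(2)` and `²E₆(2)` (helper106)

Generated data and the kernel checks.
-/

set_option autoImplicit false
set_option linter.unusedSectionVars false

namespace Cfsg.Agent.H106.QT

open CoxeterSystem Cfsg Cfsg.Lie Cfsg.Lie.ChevalleyDatum
open Cfsg.Agent.ChevalleyStructure Cfsg.Agent.ChevalleyStructure.Elts Cfsg.Agent.ChevalleyStructure.CoxeterGeom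
  Cfsg.Agent.ChevalleyStructure.CoxeterGeomTypes Cfsg.Agent.ChevalleyStructure.NPerm
open Cfsg.Agent.Tits.Roots Cfsg.Agent.Tits.Core Cfsg.Agent.Nodes Cfsg.Agent.Nodes.Reps Cfsg.Agent.Nodes.RGDChev
  Cfsg.Agent.Nodes.Coroot Cfsg.Agent.KFacts.RgdSL
open Cfsg.Agent.H378.Eng Cfsg.Agent.H378.WL Cfsg.Agent.H165.WL Cfsg.Agent.H76.RG Cfsg.Agent.H460.OT
open Cfsg.Agent.H378.E6Dat (dat)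

/-- classes, `θ = w` -/
def clsP : List Cls :=
  [⟨1, [[-1, 0, 0, 0, 0, 0], [0, -1, 0, 0, 0, 0], [0, 0, -1, 0, 0, 0], [0, 0, 0, -1, 0, 0], [0, 0, 0, 0, -1, 0], [0, 0, 0,
      0, 0, -1]], 1, [], []⟩,
    ⟨3, [[-1, 0, 0, 0, 0, 0], [0, -3, 0, 0, 0, 0], [-1, 0, -3, 0, 0, 0], [0, 0, 0, -3, 0, 0], [0, 0, 0, 0, -3, 0], [0, 0, 0,
      0, 0, -3]], 2, [0], [⟨3, [2], [[1, 0, 1, 0, 0, 0]], [[0, 0, 1, 0, 0, 0], [0, 2, 0, 0, 0, 0], [0, 0, 0, 0, 0, 0], [0,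
      0, 0, 2, 0, 0], [0, 0, 0, 0, 2, 0], [0, 0, 0, 0, 0, 2]]⟩]⟩,
    ⟨9, [[-3, 0, 0, 0, 0, 0], [0, -3, 0, 0, 0, 0], [-3, 0, -9, 0, 0, 0], [0, -3, 0, -9, 0, 0], [0, 0, 0, 0, -9, 0], [0, 0,
      0, 0, 0, -9]], 2, [0, 1], [⟨3, [2, 3], [[1, 0, 1, 0, 0, 0], [0, 1, 0, 1, 0, 0]], [[0, 0, 1, 0, 0, 0], [0, 0, 0, 1, 0,
      0], [0, 0, 0, 0, 0, 0], [0, 0, 0, 0, 0, 0], [0, 0, 0, 0, 2, 0], [0, 0, 0, 0, 0, 2]]⟩]⟩,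
    ⟨7, [[-2, 0, 1, 0, 0, 0], [0, -7, 0, 0, 0, 0], [-1, 0, -3, 0, 0, 0], [-1, 0, -3, -7, 0, 0], [0, 0, 0, 0, -7, 0], [0, 0,
      0, 0, 0, -7]], 3, [0, 2, 6], [⟨7, [3], [[2, 0, 1, 1, 0, 0]], [[2, 0, 0, 2, 0, 0], [0, 6, 0, 0, 0, 0], [0, 0, 0, 1, 0,
      0], [0, 0, 0, 0, 0, 0], [0, 0, 0, 0, 6, 0], [0, 0, 0, 0, 0, 6]]⟩]⟩,
    ⟨21, [[-6, 0, 3, 0, 0, 0], [0, -7, 0, 0, 0, 0], [-3, 0, -9, 0, 0, 0], [-3, -7, -9, -21, 0, 0], [0, 0, 0, 0, -21, 0], [0,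
      0, 0, 0, 0, -21]], 6, [0, 1, 2, 6], [⟨3, [3], [[0, 1, 0, 1, 0, 0]], [[1, 0, 1, 0, 0, 0], [1, 0, 0, 1, 0, 0], [2, 0, 0,
      0, 0, 0], [0, 0, 0, 0, 0, 0], [0, 0, 0, 0, 2, 0], [0, 0, 0, 0, 0, 2]]⟩, ⟨7, [3], [[2, 0, 1, 1, 0, 0]], [[2, 3, 0, 2,
      0, 0], [0, 2, 0, 0, 0, 0], [0, 5, 0, 1, 0, 0], [0, 0, 0, 0, 0, 0], [0, 0, 0, 0, 6, 0], [0, 0, 0, 0, 0, 6]]⟩]⟩,
    ⟨27, [[-9, 0, 0, 0, 0, 0], [0, -9, 0, 0, 0, 0], [-9, 0, -27, 0, 0, 0], [0, -9, 0, -27, -9, 0], [0, 0, 0, 0, -9, 0], [0,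
      0, 0, 0, -9, -27]], 2, [0, 1, 4], [⟨3, [2, 3, 5], [[1, 0, 1, 0, 0, 0], [0, 1, 0, 1, 0, 0], [0, 2, 0, 0, 1, 1]], [[0,
      0, 1, 0, 0, 0], [0, 0, 0, 1, 0, 2], [0, 0, 0, 0, 0, 0], [0, 0, 0, 0, 0, 0], [0, 0, 0, 0, 0, 1], [0, 0, 0, 0, 0, 0]]⟩]⟩,
    ⟨15, [[-4, 1, 3, 3, 0, 0], [1, -4, 3, 3, 0, 0], [-4, 1, -12, 3, 0, 0], [1, -4, 3, -12, 0, 0], [-3, -3, -9, -9, -15, 0],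
      [0, 0, 0, 0, 0, -15]], 4, [0, 1, 8, 11, 12, 16], [⟨3, [3], [[2, 1, 2, 1, 0, 0]], [[2, 0, 1, 0, 0, 0], [0, 0, 0, 1, 0,
      0], [2, 0, 0, 0, 0, 0], [0, 0, 0, 0, 0, 0], [2, 0, 0, 0, 2, 0], [0, 0, 0, 0, 0, 2]]⟩, ⟨5, [4], [[3, 3, 3, 3, 1, 0]],
      [[3, 0, 0, 0, 3, 0], [0, 3, 0, 0, 3, 0], [3, 0, 4, 0, 3, 0], [2, 0, 1, 0, 3, 0], [0, 0, 0, 0, 0, 0], [0, 0, 0, 0, 0,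
      4]]⟩]⟩,
    ⟨31, [[-8, 2, 7, 6, 0, 0], [1, -8, 3, 7, 0, 0], [-4, 1, -12, 3, 0, 0], [-3, -7, -9, -21, 0, 0], [-3, -7, -9, -21, -31,
      0], [0, 0, 0, 0, 0, -31]], 5, [0, 1, 2, 3, 6, 7, 8, 11, 12, 16], [⟨31, [4], [[13, 10, 22, 1, 1, 0]], [[13, 0, 9, 0,
      13, 0], [0, 10, 0, 0, 10, 0], [22, 0, 4, 0, 22, 0], [0, 0, 0, 0, 1, 0], [0, 0, 0, 0, 0, 0], [0, 0, 0, 0, 0, 30]]⟩]⟩,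
    ⟨63, [[-18, 0, 9, 0, 0, 0], [0, -21, 0, 0, 0, 0], [-9, 0, -27, 0, 0, 0], [-9, -21, -27, -63, -21, 0], [0, 0, 0, 0, -21,
      0], [0, 0, 0, 0, -21, -63]], 6, [0, 1, 2, 4, 6], [⟨3, [3, 5], [[0, 1, 0, 1, 0, 0], [0, 2, 0, 0, 1, 1]], [[1, 0, 1, 0,
      0, 0], [1, 0, 0, 1, 0, 2], [2, 0, 0, 0, 0, 0], [0, 0, 0, 0, 0, 0], [0, 0, 0, 0, 0, 1], [0, 0, 0, 0, 0, 0]]⟩, ⟨7, [3],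
      [[2, 0, 1, 1, 0, 0]], [[2, 3, 0, 2, 3, 0], [0, 2, 0, 0, 0, 0], [0, 5, 0, 1, 5, 0], [0, 0, 0, 0, 0, 0], [0, 0, 0, 0, 2,
      0], [0, 0, 0, 0, 2, 6]]⟩]⟩,
    ⟨45, [[-9, 9, 18, 18, 9, 0], [0, -15, 0, 0, 0, 0], [-9, -6, -27, -12, -6, 0], [0, 0, 0, -15, 15, 0], [0, 0, 0, 0, -45,
      0], [-9, -21, -27, -42, -21, -45]], 4, [0, 1, 2, 6, 23, 25, 28], [⟨3, [3, 5], [[0, 1, 0, 1, 0, 0], [0, 2, 2, 0, 0,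
      1]], [[1, 0, 1, 0, 0, 0], [1, 0, 0, 1, 0, 2], [2, 0, 0, 0, 0, 2], [0, 0, 0, 0, 0, 0], [0, 0, 0, 2, 0, 0], [0, 0, 0, 0,
      0, 0]]⟩, ⟨5, [5], [[1, 0, 1, 0, 0, 1]], [[3, 1, 0, 2, 1, 1], [0, 3, 0, 0, 0, 0], [0, 2, 0, 4, 2, 1], [0, 0, 0, 3, 2,
      0], [0, 0, 0, 0, 4, 0], [0, 0, 0, 0, 0, 0]]⟩]⟩,
    ⟨49, [[-14, 0, 7, 0, 0, 0], [7, -7, 14, 21, 14, 7], [-7, 0, -21, 0, 0, 0], [0, -7, -7, -28, 14, 7], [0, 0, 0, 0, -49,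
      0], [0, 0, 0, 0, 0, -49]], 3, [0, 1, 2, 6, 34, 35], [⟨7, [2, 3], [[2, 6, 1, 0, 0, 0], [0, 1, 0, 1, 0, 0]], [[2, 0, 0,
      0, 0, 0], [0, 0, 0, 1, 0, 0], [0, 0, 0, 0, 0, 0], [0, 0, 0, 0, 0, 0], [0, 0, 0, 0, 6, 0], [5, 6, 0, 3, 2, 0]]⟩]⟩,
    ⟨27, [[-6, 3, 9, 9, 3, 0], [3, -6, 9, 9, 3, 0], [-6, 3, -18, 9, 3, 0], [-3, -12, -9, -36, -12, 0], [3, 3, 9, 9, -6, 0],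
      [-6, -6, -18, -18, -15, -27]], 6, [0, 1, 4, 8, 11, 12, 14, 16, 17, 18, 21, 28], [⟨3, [3, 5], [[2, 1, 2, 1, 0, 0], [0,
      2, 0, 0, 1, 1]], [[2, 0, 1, 0, 0, 0], [0, 0, 0, 1, 0, 2], [2, 0, 0, 0, 0, 0], [0, 0, 0, 0, 0, 0], [1, 0, 0, 0, 0, 1],
      [0, 0, 0, 0, 0, 0]]⟩]⟩,
    ⟨81, [[-27, 0, 0, 0, 0, 0], [0, -27, 0, 0, 0, 0], [0, 27, -27, 54, 27, 0], [0, -27, 0, -81, -27, 0], [0, 0, 0, 0, -27,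
      0], [-27, -27, -54, -54, -54, -81]], 2, [0, 1, 4, 8, 11, 12, 14, 16, 17, 18, 21, 28], [⟨3, [2, 3, 4, 5], [[1, 0, 1, 0,
      0, 0], [0, 1, 0, 1, 0, 0], [2, 2, 0, 0, 1, 0], [1, 0, 0, 0, 0, 1]], [[0, 0, 1, 0, 0, 1], [0, 0, 2, 0, 0, 0], [0, 0, 0,
      0, 0, 0], [0, 0, 0, 0, 0, 0], [0, 0, 0, 0, 0, 0], [0, 0, 0, 0, 0, 0]]⟩]⟩,
    ⟨25, [[-10, 0, 0, 0, -5, 0], [5, -5, 10, 10, 5, 0], [0, 5, -10, 15, 10, 0], [-5, -10, -5, -30, -10, 0], [5, 0, 0, 0,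
      -10, 0], [-10, -5, -15, -15, -15, -25]], 4, [0, 1, 4, 8, 11, 12, 14, 16, 17, 18, 21, 28], [⟨5, [4, 5], [[3, 3, 3, 3,
      1, 0], [0, 1, 4, 2, 0, 1]], [[2, 0, 0, 0, 0, 0], [4, 3, 0, 0, 0, 1], [2, 0, 4, 0, 0, 4], [1, 0, 1, 0, 0, 2], [0, 0, 0,
      0, 0, 0], [0, 0, 0, 0, 0, 0]]⟩]⟩,
    ⟨51, [[-12, 6, 15, 18, 12, 0], [3, -10, 9, 21, 14, 0], [-6, 3, -18, 9, 6, 0], [-6, -14, -18, -42, -11, 0], [-3, -7, -9,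
      -21, -31, 0], [-3, -7, -9, -21, -31, -51]], 8, [0, 1, 2, 3, 4, 6, 7, 8, 9, 11, 12, 13, 14, 16, 17, 18, 21, 23, 25,
      28], [⟨3, [5], [[0, 1, 0, 2, 1, 1]], [[1, 2, 1, 0, 0, 0], [1, 1, 0, 1, 0, 1], [2, 1, 0, 0, 0, 0], [0, 2, 0, 0, 0, 2],
      [0, 0, 0, 0, 0, 1], [0, 0, 0, 0, 0, 0]]⟩, ⟨17, [5], [[4, 16, 2, 2, 1, 1]], [[14, 5, 9, 15, 0, 4], [11, 14, 16, 9, 0,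
      16], [7, 11, 4, 16, 0, 2], [1, 8, 3, 7, 0, 2], [0, 0, 0, 0, 0, 1], [0, 0, 0, 0, 0, 0]]⟩]⟩,
    ⟨93, [[-24, 6, 21, 18, 0, 0], [3, -24, 9, 21, 0, 0], [-12, 3, -36, 9, 0, 0], [-9, -21, -27, -63, 0, 0], [-9, -21, -27,
      -63, -93, -31], [0, 0, 0, 0, 0, -31]], 10, [0, 1, 2, 3, 5, 6, 7, 8, 11, 12, 16], [⟨3, [5], [[0, 0, 0, 0, 1, 1]], [[1,
      2, 1, 0, 0, 0], [1, 1, 0, 1, 0, 0], [2, 1, 0, 0, 0, 0], [0, 2, 0, 0, 0, 0], [0, 2, 0, 0, 2, 0], [0, 0, 0, 0, 0, 0]]⟩,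
      ⟨31, [4], [[13, 10, 22, 1, 1, 0]], [[13, 0, 9, 0, 13, 25], [0, 10, 0, 0, 10, 24], [22, 0, 4, 0, 22, 28], [0, 0, 0, 0,
      1, 21], [0, 0, 0, 0, 0, 0], [0, 0, 0, 0, 0, 10]]⟩]⟩,
    ⟨45, [[-10, 10, 15, 20, 10, 0], [0, -18, 0, 0, -9, 0], [-5, 5, -15, 10, 5, 0], [-5, -13, -15, -35, -4, 0], [0, 9, 0, 0,
      -18, 0], [-5, -22, -15, -35, -31, -45]], 12, [0, 1, 2, 3, 4, 6, 7, 8, 9, 11, 12, 13, 14, 16, 17, 18, 21, 23, 25, 28],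
      [⟨3, [5], [[2, 0, 1, 1, 0, 1]], [[1, 2, 1, 0, 0, 2], [0, 2, 0, 0, 1, 0], [2, 1, 0, 0, 0, 1], [0, 2, 0, 0, 0, 1], [0,
      2, 0, 0, 2, 0], [0, 0, 0, 0, 0, 0]]⟩, ⟨5, [5], [[0, 4, 0, 4, 3, 1]], [[2, 2, 2, 1, 0, 0], [1, 2, 3, 2, 0, 4], [1, 1,
      3, 3, 0, 0], [2, 3, 1, 4, 0, 4], [2, 0, 1, 4, 0, 3], [0, 0, 0, 0, 0, 0]]⟩]⟩,
    ⟨63, [[-9, 21, 36, 48, 30, 15], [3, -14, 9, 19, 4, 2], [-12, -7, -36, -13, -16, -8], [-9, -21, -27, -57, -12, -6], [6,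
      14, 18, 17, -13, 25], [0, 0, 0, 0, 0, -63]], 6, [0, 1, 2, 3, 6, 7, 8, 11, 12, 16, 30, 32, 33, 34, 35], [⟨3, [4], [[0,
      2, 1, 0, 1, 0]], [[1, 2, 1, 0, 0, 0], [1, 0, 0, 1, 2, 0], [2, 2, 0, 0, 1, 0], [0, 2, 0, 0, 0, 0], [0, 0, 0, 0, 0, 0],
      [0, 2, 0, 2, 2, 0]]⟩, ⟨7, [4], [[2, 4, 5, 2, 1, 0]], [[4, 3, 6, 2, 2, 0], [2, 2, 6, 0, 4, 0], [6, 5, 4, 1, 5, 0], [1,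
      0, 3, 0, 2, 0], [0, 0, 0, 0, 0, 0], [5, 0, 1, 6, 2, 0]]⟩]⟩,
    ⟨147, [[-42, 0, 21, 0, 0, 0], [0, -49, 0, 0, 0, 0], [-21, 0, -63, 0, 0, 0], [-21, -49, -63, -147, -63, -42], [0, 0, 0,
      0, -42, 21], [0, 0, 0, 0, -21, -63]], 6, [0, 1, 2, 4, 5, 6, 10], [⟨3, [3], [[0, 1, 0, 1, 0, 0]], [[1, 0, 1, 0, 0, 0],
      [1, 0, 0, 1, 0, 2], [2, 0, 0, 0, 0, 0], [0, 0, 0, 0, 0, 0], [0, 0, 0, 0, 1, 1], [0, 0, 0, 0, 2, 0]]⟩, ⟨7, [3, 5], [[2,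
      0, 1, 1, 0, 0], [1, 0, 4, 0, 2, 1]], [[2, 3, 0, 2, 3, 0], [0, 2, 0, 0, 0, 0], [0, 5, 0, 1, 5, 0], [0, 0, 0, 0, 0, 0],
      [0, 0, 0, 0, 2, 0], [0, 0, 0, 0, 0, 0]]⟩]⟩,
    ⟨135, [[-27, 27, 54, 54, 27, 0], [0, -45, 0, 0, 0, 0], [-27, -18, -81, -36, -18, 0], [0, 0, 0, -45, 0, 0], [0, 0, 0, 0,
      -45, 0], [-27, -63, -81, -126, -108, -135]], 4, [0, 1, 2, 3, 4, 6, 7, 8, 9, 11, 12, 13, 14, 16, 17, 18, 21, 23, 25,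
      28], [⟨3, [3, 4, 5], [[0, 1, 0, 1, 0, 0], [0, 0, 1, 0, 1, 0], [0, 2, 2, 0, 0, 1]], [[1, 0, 1, 0, 0, 0], [1, 0, 0, 0,
      0, 2], [2, 0, 0, 0, 0, 2], [0, 0, 0, 0, 0, 0], [0, 0, 0, 0, 0, 0], [0, 0, 0, 0, 0, 0]]⟩, ⟨5, [5], [[1, 0, 1, 0, 0,
      1]], [[3, 1, 0, 2, 3, 1], [0, 3, 0, 0, 0, 0], [0, 2, 0, 4, 4, 1], [0, 0, 0, 3, 0, 0], [0, 0, 0, 0, 3, 0], [0, 0, 0, 0,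
      0, 0]]⟩]⟩,
    ⟨91, [[-20, 14, 31, 42, 36, 24], [7, -14, 21, 49, 42, 28], [-10, 7, -30, 21, 18, 12], [-12, -28, -36, -84, -33, -22],
      [-6, -14, -18, -42, -62, -11], [-3, -7, -9, -21, -31, -51]], 12, [0, 1, 2, 3, 4, 5, 6, 7, 8, 9, 10, 11, 12, 13, 14,
      15, 16, 17, 18, 19, 20, 21, 22, 23, 24, 25, 26, 27, 28, 29, 30, 31, 32, 33, 34, 35], [⟨7, [5], [[2, 0, 1, 4, 2, 1]],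
      [[1, 3, 4, 2, 6, 0], [5, 2, 1, 0, 0, 0], [4, 5, 5, 1, 3, 0], [4, 0, 5, 0, 5, 0], [2, 0, 6, 0, 2, 0], [0, 0, 0, 0, 0,
      0]]⟩, ⟨13, [5], [[11, 2, 12, 4, 2, 1]], [[12, 7, 11, 8, 1, 0], [10, 10, 4, 5, 12, 0], [6, 10, 5, 4, 7, 0], [6, 1, 5,
      3, 11, 0], [3, 7, 9, 8, 5, 0], [0, 0, 0, 0, 0, 0]]⟩]⟩,
    ⟨73, [[-14, 22, 31, 48, 38, 18], [2, -24, 6, 14, 5, -13], [-7, 11, -21, 24, 19, 9], [-10, -26, -30, -70, -25, -8], [-5,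
      -13, -15, -35, -49, -4], [4, 25, 12, 28, 10, -26]], 9, [0, 1, 2, 3, 4, 5, 6, 7, 8, 9, 10, 11, 12, 13, 14, 15, 16, 17,
      18, 19, 20, 21, 22, 23, 24, 25, 26, 27, 28, 29, 30, 31, 32, 33, 34, 35], [⟨73, [5], [[33, 37, 53, 34, 17, 1]], [[56,
      23, 23, 29, 68, 0], [0, 36, 0, 0, 0, 0], [28, 48, 11, 51, 34, 0], [56, 22, 22, 27, 67, 0], [28, 11, 11, 50, 33, 0],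
      [0, 0, 0, 0, 0, 0]]⟩]⟩,
    ⟨189, [[-27, 63, 108, 144, 90, 45], [9, -42, 27, 57, 12, 6], [-36, -21, -108, -39, -48, -24], [-27, -63, -81, -171, -36,
      -18], [18, 42, 54, 51, -39, 12], [0, 0, 0, 0, 0, -63]], 6, [0, 1, 2, 3, 4, 5, 6, 7, 8, 9, 10, 11, 12, 13, 14, 15, 16,
      17, 18, 19, 20, 21, 22, 23, 24, 25, 26, 27, 28, 29, 30, 31, 32, 33, 34, 35], [⟨3, [4, 5], [[0, 2, 1, 0, 1, 0], [0, 1,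
      2, 0, 0, 1]], [[1, 2, 1, 0, 0, 0], [1, 1, 0, 2, 0, 0], [2, 1, 0, 2, 0, 0], [0, 2, 0, 0, 0, 0], [0, 0, 0, 0, 0, 0], [0,
      0, 0, 0, 0, 0]]⟩, ⟨7, [4], [[2, 4, 5, 2, 1, 0]], [[3, 3, 3, 5, 3, 0], [0, 2, 0, 6, 6, 0], [0, 5, 0, 5, 4, 0], [0, 0,
      0, 3, 3, 0], [0, 0, 0, 0, 0, 0], [4, 0, 5, 2, 3, 0]]⟩]⟩,
    ⟨63, [[-9, 21, 36, 48, 30, 15], [3, -21, 9, 12, -3, 9], [-12, 0, -36, -6, -9, -15], [-9, -21, -27, -57, -12, -6], [6,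
      21, 18, 24, -6, 18], [0, -21, 0, -21, -21, -42]], 6, [0, 1, 2, 3, 4, 5, 6, 7, 8, 9, 10, 11, 12, 13, 14, 15, 16, 17,
      18, 19, 20, 21, 22, 23, 24, 25, 26, 27, 28, 29, 30, 31, 32, 33, 34, 35], [⟨3, [4, 5], [[0, 2, 1, 0, 1, 0], [2, 0, 1,
      1, 0, 1]], [[0, 2, 1, 1, 0, 0], [0, 1, 0, 0, 0, 0], [1, 1, 0, 0, 0, 0], [1, 2, 0, 2, 0, 0], [0, 0, 0, 0, 0, 0], [0, 0,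
      0, 0, 0, 0]]⟩, ⟨7, [4], [[2, 4, 5, 2, 1, 0]], [[6, 2, 5, 2, 6, 0], [0, 3, 0, 0, 0, 0], [3, 3, 2, 1, 6, 0], [3, 6, 2,
      0, 6, 0], [0, 0, 0, 0, 0, 0], [1, 2, 3, 6, 1, 0]]⟩]⟩,
    ⟨343, [[-98, 0, 49, 0, 0, 0], [49, -49, 98, 147, 98, 49], [-49, 0, -147, 0, 0, 0], [0, -49, -49, -196, -49, -49], [0, 0,
      0, 0, -98, 49], [0, 0, 0, 0, -49, -147]], 3, [0, 1, 2, 3, 4, 5, 6, 7, 8, 9, 10, 11, 12, 13, 14, 15, 16, 17, 18, 19,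
      20, 21, 22, 23, 24, 25, 26, 27, 28, 29, 30, 31, 32, 33, 34, 35], [⟨7, [2, 3, 5], [[2, 6, 1, 0, 0, 0], [0, 1, 0, 1, 0,
      0], [0, 4, 0, 0, 2, 1]], [[2, 0, 0, 0, 0, 0], [6, 3, 0, 6, 0, 0], [0, 0, 0, 0, 0, 0], [0, 0, 0, 0, 0, 0], [1, 4, 0, 2,
      0, 0], [0, 0, 0, 0, 0, 0]]⟩]⟩]

/-- classes, `θ = -w` -/
def clsN : List Cls :=
  [⟨729, [[-243, 0, 0, 0, 0, 0], [0, -243, 0, 0, 0, 0], [0, 0, -243, 0, 0, 0], [0, 0, 0, -243, 0, 0], [0, 0, 0, 0, -243, 0],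
      [0, 0, 0, 0, 0, -243]], 2, [0, 1, 2, 3, 4, 5, 6, 7, 8, 9, 10, 11, 12, 13, 14, 15, 16, 17, 18, 19, 20, 21, 22, 23, 24,
      25, 26, 27, 28, 29, 30, 31, 32, 33, 34, 35], [⟨3, [0, 1, 2, 3, 4, 5], [[1, 0, 0, 0, 0, 0], [0, 1, 0, 0, 0, 0], [0, 0,
      1, 0, 0, 0], [0, 0, 0, 1, 0, 0], [0, 0, 0, 0, 1, 0], [0, 0, 0, 0, 0, 1]], [[0, 0, 0, 0, 0, 0], [0, 0, 0, 0, 0, 0], [0,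
      0, 0, 0, 0, 0], [0, 0, 0, 0, 0, 0], [0, 0, 0, 0, 0, 0], [0, 0, 0, 0, 0, 0]]⟩]⟩,
    ⟨243, [[-243, 0, 0, 0, 0, 0], [0, -81, 0, 0, 0, 0], [81, 0, -81, 0, 0, 0], [0, 0, 0, -81, 0, 0], [0, 0, 0, 0, -81, 0],
      [0, 0, 0, 0, 0, -81]], 2, [1, 3, 4, 5, 7, 9, 10, 13, 15, 19, 28, 31, 33, 34, 35], [⟨3, [1, 2, 3, 4, 5], [[0, 1, 0, 0,
      0, 0], [0, 0, 1, 0, 0, 0], [0, 0, 0, 1, 0, 0], [0, 0, 0, 0, 1, 0], [0, 0, 0, 0, 0, 1]], [[2, 0, 0, 0, 0, 0], [0, 0, 0,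
      0, 0, 0], [0, 0, 0, 0, 0, 0], [0, 0, 0, 0, 0, 0], [0, 0, 0, 0, 0, 0], [0, 0, 0, 0, 0, 0]]⟩]⟩,
    ⟨81, [[-81, 0, 0, 0, 0, 0], [0, -81, 0, 0, 0, 0], [27, 0, -27, 0, 0, 0], [0, 27, 0, -27, 0, 0], [0, 0, 0, 0, -27, 0],
      [0, 0, 0, 0, 0, -27]], 2, [4, 5, 10, 28, 31, 33], [⟨3, [2, 3, 4, 5], [[0, 0, 1, 0, 0, 0], [0, 0, 0, 1, 0, 0], [0, 0,
      0, 0, 1, 0], [0, 0, 0, 0, 0, 1]], [[2, 0, 0, 0, 0, 0], [0, 2, 0, 0, 0, 0], [0, 0, 0, 0, 0, 0], [0, 0, 0, 0, 0, 0], [0,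
      0, 0, 0, 0, 0], [0, 0, 0, 0, 0, 0]]⟩]⟩,
    ⟨243, [[-162, 0, -81, 0, 0, 0], [0, -81, 0, 0, 0, 0], [81, 0, -81, 0, 0, 0], [-27, 0, 27, -81, 0, 0], [0, 0, 0, 0, -81,
      0], [0, 0, 0, 0, 0, -81]], 6, [0, 1, 2, 3, 4, 5, 6, 7, 8, 9, 10, 11, 12, 13, 14, 15, 16, 17, 18, 19, 20, 21, 22, 23,
      24, 25, 26, 27, 28, 29, 30, 31, 32, 33, 34, 35], [⟨3, [1, 3, 4, 5], [[0, 1, 0, 0, 0, 0], [0, 0, 0, 1, 0, 0], [0, 0, 0,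
      0, 1, 0], [0, 0, 0, 0, 0, 1]], [[2, 0, 0, 2, 0, 0], [0, 0, 0, 0, 0, 0], [0, 0, 0, 2, 0, 0], [0, 0, 0, 0, 0, 0], [0, 0,
      0, 0, 0, 0], [0, 0, 0, 0, 0, 0]]⟩]⟩,
    ⟨81, [[-54, 0, -27, 0, 0, 0], [0, -81, 0, 0, 0, 0], [27, 0, -27, 0, 0, 0], [-9, 27, 9, -27, 0, 0], [0, 0, 0, 0, -27, 0],
      [0, 0, 0, 0, 0, -27]], 6, [0, 2, 4, 5, 6, 10, 23, 25, 27, 28, 29, 30, 31, 32, 33], [⟨3, [3, 4, 5], [[0, 0, 0, 1, 0,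
      0], [0, 0, 0, 0, 1, 0], [0, 0, 0, 0, 0, 1]], [[2, 1, 0, 2, 0, 0], [0, 2, 0, 0, 0, 0], [0, 1, 0, 2, 0, 0], [0, 0, 0, 0,
      0, 0], [0, 0, 0, 0, 0, 0], [0, 0, 0, 0, 0, 0]]⟩]⟩,
    ⟨27, [[-27, 0, 0, 0, 0, 0], [0, -27, 0, 0, 0, 0], [9, 0, -9, 0, 0, 0], [0, 9, 0, -9, 9, 0], [0, 0, 0, 0, -27, 0], [0, 0,
      0, 0, 9, -9]], 2, [28], [⟨3, [2, 3, 5], [[0, 0, 1, 0, 0, 0], [0, 0, 0, 1, 0, 0], [0, 0, 0, 0, 0, 1]], [[2, 0, 0, 0, 0,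
      0], [0, 2, 0, 0, 0, 0], [0, 0, 0, 0, 0, 0], [0, 0, 0, 0, 0, 0], [0, 1, 0, 2, 0, 0], [0, 0, 0, 0, 0, 0]]⟩]⟩,
    ⟨135, [[-108, 27, -27, -27, 0, 0], [27, -108, -27, -27, 0, 0], [36, -9, -36, 9, 0, 0], [-9, 36, 9, -36, 0, 0], [-9, -9,
      9, 9, -45, 0], [0, 0, 0, 0, 0, -45]], 4, [4, 5, 8, 10, 14, 16, 20, 21, 26, 28, 31, 33], [⟨3, [3, 4, 5], [[0, 0, 2, 1,
      0, 0], [0, 0, 0, 0, 1, 0], [0, 0, 0, 0, 0, 1]], [[0, 0, 2, 0, 0, 0], [1, 2, 2, 0, 0, 0], [1, 0, 2, 0, 0, 0], [0, 0, 0,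
      0, 0, 0], [0, 0, 0, 0, 0, 0], [0, 0, 0, 0, 0, 0]]⟩, ⟨5, [4], [[2, 2, 1, 1, 1, 0]], [[4, 0, 0, 0, 4, 0], [0, 4, 0, 0,
      4, 0], [2, 0, 3, 0, 2, 0], [3, 0, 2, 0, 2, 0], [0, 0, 0, 0, 0, 0], [0, 0, 0, 0, 0, 3]]⟩]⟩,
    ⟨99, [[-72, 18, -27, -18, 0, 0], [-9, -72, 9, -27, 0, 0], [36, -9, -36, 9, 0, 0], [-9, 27, 9, -27, 0, 0], [3, -9, -3, 9,
      -33, 0], [0, 0, 0, 0, 0, -33]], 10, [0, 1, 2, 3, 4, 5, 6, 7, 8, 9, 10, 11, 12, 13, 14, 15, 16, 17, 18, 19, 20, 21, 22,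
      23, 24, 25, 26, 27, 28, 29, 30, 31, 32, 33, 34, 35], [⟨3, [4, 5], [[0, 0, 0, 0, 1, 0], [0, 0, 0, 0, 0, 1]], [[2, 1, 0,
      2, 0, 0], [1, 2, 2, 0, 0, 0], [2, 1, 1, 2, 0, 0], [1, 0, 2, 0, 0, 0], [0, 0, 0, 0, 0, 0], [0, 0, 0, 0, 0, 0]]⟩, ⟨11,
      [4], [[9, 8, 1, 8, 1, 0]], [[3, 0, 7, 0, 3, 0], [0, 10, 0, 0, 10, 0], [4, 0, 7, 0, 4, 0], [0, 0, 0, 0, 10, 0], [0, 0,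
      0, 0, 0, 0], [0, 0, 0, 0, 0, 7]]⟩]⟩,
    ⟨27, [[-18, 0, -9, 0, 0, 0], [0, -27, 0, 0, 0, 0], [9, 0, -9, 0, 0, 0], [-3, 9, 3, -9, 9, 0], [0, 0, 0, 0, -27, 0], [0,
      0, 0, 0, 9, -9]], 6, [0, 2, 6, 23, 25, 28], [⟨3, [3, 5], [[0, 0, 0, 1, 0, 0], [0, 0, 0, 0, 0, 1]], [[2, 1, 0, 2, 1,
      0], [0, 2, 0, 0, 0, 0], [0, 1, 0, 2, 1, 0], [0, 0, 0, 0, 0, 0], [0, 0, 0, 0, 2, 0], [0, 0, 0, 0, 0, 0]]⟩]⟩,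
    ⟨45, [[-27, -9, -18, -18, -9, 0], [0, -45, 0, 0, 0, 0], [9, 18, -9, 36, 18, 0], [0, 0, 0, -45, -15, 0], [0, 0, 0, 0,
      -15, 0], [-3, 9, 3, 18, 9, -15]], 4, [0, 4, 28], [⟨3, [4, 5], [[0, 0, 0, 1, 1, 0], [0, 0, 0, 0, 0, 1]], [[0, 1, 2, 2,
      0, 0], [0, 2, 0, 0, 0, 0], [2, 1, 1, 2, 0, 0], [0, 0, 0, 2, 0, 0], [0, 0, 0, 0, 0, 0], [0, 0, 0, 0, 0, 0]]⟩, ⟨5, [5],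
      [[4, 0, 2, 0, 0, 1]], [[4, 1, 0, 2, 1, 3], [0, 4, 0, 0, 0, 0], [0, 1, 0, 2, 1, 4], [0, 0, 0, 4, 3, 0], [0, 0, 0, 0, 3,
      0], [0, 0, 0, 0, 0, 0]]⟩]⟩,
    ⟨81, [[-54, 0, -27, 0, 0, 0], [-27, -81, -54, -81, -54, -27], [27, 0, -27, 0, 0, 0], [0, 27, 27, 0, 18, 9], [0, 0, 0, 0,
      -27, 0], [0, 0, 0, 0, 0, -27]], 6, [0, 1, 2, 3, 4, 5, 6, 7, 8, 9, 10, 11, 12, 13, 14, 15, 16, 17, 18, 19, 20, 21, 22,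
      23, 24, 25, 26, 27, 28, 29, 30, 31, 32, 33, 34, 35], [⟨3, [2, 3, 5], [[1, 2, 1, 0, 0, 0], [0, 0, 0, 1, 0, 0], [0, 0,
      0, 0, 1, 1]], [[2, 0, 0, 0, 0, 0], [0, 0, 0, 2, 0, 0], [0, 0, 0, 0, 0, 0], [0, 0, 0, 0, 0, 0], [2, 2, 0, 0, 0, 0], [0,
      0, 0, 0, 0, 0]]⟩]⟩,
    ⟨63, [[-54, 9, -9, -9, 9, 0], [9, -54, -9, -9, 9, 0], [18, -3, -18, 3, -3, 0], [-9, 12, 9, -12, 12, 0], [9, 9, -9, -9,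
      -54, 0], [-6, -6, 6, 6, 15, -21]], 6, [8, 21, 28], [⟨3, [3, 5], [[0, 0, 2, 1, 0, 0], [0, 0, 0, 0, 0, 1]], [[0, 0, 2,
      0, 0, 0], [1, 2, 2, 0, 0, 0], [1, 0, 2, 0, 0, 0], [0, 0, 0, 0, 0, 0], [1, 1, 2, 2, 0, 0], [0, 0, 0, 0, 0, 0]]⟩, ⟨7,
      [5], [[2, 2, 4, 5, 2, 1]], [[2, 3, 4, 4, 0, 3], [3, 2, 4, 4, 0, 3], [4, 6, 3, 1, 0, 6], [6, 4, 1, 3, 0, 4], [4, 4, 3,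
      3, 0, 3], [0, 0, 0, 0, 0, 0]]⟩]⟩,
    ⟨9, [[-9, 0, 0, 0, 0, 0], [0, -9, 0, 0, 0, 0], [0, -3, -9, -6, -3, 0], [0, 3, 0, -3, 3, 0], [0, 0, 0, 0, -9, 0], [3, 3,
      6, 6, 6, -3]], 2, [], [⟨3, [3, 5], [[0, 0, 2, 1, 0, 0], [0, 0, 0, 0, 0, 1]], [[2, 0, 0, 0, 0, 0], [0, 2, 0, 0, 0, 0],
      [0, 0, 2, 2, 0, 0], [0, 0, 0, 0, 0, 0], [0, 1, 0, 2, 0, 0], [0, 0, 0, 0, 0, 0]]⟩]⟩,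
    ⟨225, [[-90, 0, 0, 0, 45, 0], [-45, -135, -90, -90, -45, 0], [0, 15, -90, -15, -30, 0], [45, 30, 45, -30, 30, 0], [-45,
      0, 0, 0, -90, 0], [30, -15, 15, 15, 15, -75]], 4, [0, 1, 2, 3, 4, 5, 6, 7, 8, 9, 10, 11, 12, 13, 14, 15, 16, 17, 18,
      19, 20, 21, 22, 23, 24, 25, 26, 27, 28, 29, 30, 31, 32, 33, 34, 35], [⟨3, [3, 5], [[0, 0, 2, 1, 0, 0], [0, 0, 0, 0, 0,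
      1]], [[2, 1, 0, 2, 0, 0], [1, 2, 2, 0, 0, 0], [2, 2, 1, 1, 0, 0], [0, 0, 0, 0, 0, 0], [1, 1, 0, 2, 0, 0], [0, 0, 0, 0,
      0, 0]]⟩, ⟨5, [4, 5], [[2, 2, 1, 1, 1, 0], [0, 4, 4, 3, 0, 1]], [[2, 0, 0, 0, 0, 0], [3, 4, 0, 0, 0, 3], [1, 0, 3, 0,
      0, 3], [2, 0, 2, 0, 0, 1], [0, 0, 0, 0, 0, 0], [0, 0, 0, 0, 0, 0]]⟩]⟩,
    ⟨51, [[-36, 6, -15, -6, -12, 0], [-3, -42, 3, -9, -18, 0], [18, -3, -18, 3, 6, 0], [-6, 18, 6, -18, 15, 0], [3, -9, -3,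
      9, -33, 0], [-1, 3, 1, -3, 11, -17]], 8, [0, 2, 6, 7, 9, 12, 14, 16, 17, 23, 25, 28], [⟨3, [5], [[0, 0, 0, 0, 0, 1]],
      [[0, 1, 2, 2, 1, 0], [1, 2, 2, 0, 0, 0], [0, 1, 0, 2, 1, 0], [2, 0, 1, 0, 1, 0], [2, 0, 1, 0, 2, 0], [0, 0, 0, 0, 0,
      0]]⟩, ⟨17, [5], [[2, 3, 16, 6, 14, 1]], [[7, 11, 9, 6, 0, 12], [3, 7, 14, 9, 0, 1], [5, 3, 12, 14, 0, 11], [3, 8, 14,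
      9, 0, 2], [0, 0, 0, 0, 0, 16], [0, 0, 0, 0, 0, 0]]⟩]⟩,
    ⟨33, [[-24, 6, -9, -6, 0, 0], [-3, -24, 3, -9, 0, 0], [12, -3, -12, 3, 0, 0], [-3, 9, 3, -9, 0, 0], [1, -3, -1, 3, -11,
      11], [0, 0, 0, 0, 0, -33]], 10, [0, 1, 2, 3, 6, 7, 8, 11, 12, 16, 30, 32, 33, 34, 35], [⟨3, [4], [[0, 0, 0, 0, 1, 0]],
      [[2, 1, 0, 2, 0, 0], [1, 2, 2, 0, 0, 0], [2, 1, 1, 2, 0, 0], [1, 0, 2, 0, 0, 0], [0, 0, 0, 0, 0, 0], [2, 0, 1, 0, 2,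
      0]]⟩, ⟨11, [4], [[9, 8, 1, 8, 1, 0]], [[3, 0, 7, 0, 3, 8], [0, 10, 0, 0, 10, 1], [4, 0, 7, 0, 4, 7], [0, 0, 0, 0, 10,
      1], [0, 0, 0, 0, 0, 0], [0, 0, 0, 0, 0, 10]]⟩]⟩,
    ⟨105, [[-90, -30, -15, -60, -30, 0], [0, -42, 0, 0, 21, 0], [45, 15, -45, 30, 15, 0], [-15, 9, 15, -45, -12, 0], [0,
      -21, 0, 0, -42, 0], [5, 18, -5, 15, 11, -35]], 12, [1, 4, 6, 23, 28], [⟨3, [5], [[0, 0, 0, 0, 0, 1]], [[0, 1, 2, 2, 1,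
      0], [0, 2, 0, 0, 2, 0], [0, 1, 0, 2, 1, 0], [2, 0, 1, 0, 1, 0], [0, 1, 0, 0, 2, 0], [0, 0, 0, 0, 0, 0]]⟩, ⟨5, [5],
      [[0, 1, 0, 3, 3, 1]], [[2, 2, 2, 3, 0, 0], [4, 2, 1, 2, 0, 2], [4, 4, 1, 1, 0, 0], [4, 3, 1, 2, 0, 1], [2, 0, 3, 1, 0,
      1], [0, 0, 0, 0, 0, 0]]⟩, ⟨7, [5], [[3, 0, 2, 4, 0, 1]], [[4, 6, 2, 0, 2, 1], [0, 1, 0, 0, 3, 0], [5, 4, 2, 0, 6, 3],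
      [0, 2, 0, 0, 3, 6], [0, 4, 0, 0, 1, 0], [0, 0, 0, 0, 0, 0]]⟩]⟩,
    ⟨63, [[-39, -9, -24, -36, -30, -15], [-3, -54, 3, -27, -12, -6], [12, 27, -12, 45, 48, 24], [-3, 9, 3, -27, -12, -6],
      [6, -18, -6, -9, -39, -9], [0, 0, 0, 0, 0, -21]], 6, [0, 3, 5, 12, 16, 33, 34], [⟨3, [4, 5], [[1, 1, 2, 1, 1, 0], [2,
      2, 1, 2, 0, 1]], [[0, 1, 2, 0, 0, 0], [2, 2, 1, 1, 0, 0], [1, 1, 2, 1, 0, 0], [2, 0, 1, 1, 0, 0], [0, 0, 0, 0, 0, 0],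
      [0, 0, 0, 0, 0, 0]]⟩, ⟨7, [4], [[4, 3, 2, 3, 1, 0]], [[0, 5, 6, 2, 6, 0], [3, 4, 4, 2, 1, 0], [2, 2, 5, 5, 3, 0], [3,
      5, 4, 2, 1, 0], [0, 0, 0, 0, 0, 0], [6, 3, 1, 5, 3, 0]]⟩]⟩,
    ⟨27, [[-18, 0, -9, 0, 0, 0], [0, -27, 0, 0, 0, 0], [9, 0, -9, 0, 0, 0], [-3, 9, 3, -9, 3, 6], [0, 0, 0, 0, -18, -9], [0,
      0, 0, 0, 9, -9]], 6, [0, 2, 4, 5, 6, 10, 23, 25, 27, 28, 29, 30, 31, 32, 33], [⟨3, [3, 5], [[0, 0, 0, 1, 0, 0], [1, 0,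
      1, 0, 1, 1]], [[2, 1, 0, 2, 1, 0], [0, 2, 0, 0, 0, 0], [0, 1, 0, 2, 1, 0], [0, 0, 0, 0, 0, 0], [0, 0, 0, 0, 2, 0], [0,
      0, 0, 0, 0, 0]]⟩]⟩,
    ⟨15, [[-9, -3, -6, -6, -3, 0], [0, -15, 0, 0, 0, 0], [3, 6, -3, 12, 6, 0], [0, 0, 0, -15, 0, 0], [0, 0, 0, 0, -15, 0],
      [-1, 3, 1, 6, 8, -5]], 4, [0, 28], [⟨3, [5], [[0, 0, 0, 0, 0, 1]], [[0, 1, 2, 2, 1, 0], [0, 2, 0, 0, 0, 0], [2, 1, 1,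
      2, 1, 0], [0, 0, 0, 2, 0, 0], [0, 0, 0, 0, 2, 0], [0, 0, 0, 0, 0, 0]]⟩, ⟨5, [5], [[4, 0, 2, 0, 0, 1]], [[4, 1, 0, 2,
      3, 3], [0, 4, 0, 0, 0, 0], [0, 1, 0, 2, 2, 4], [0, 0, 0, 4, 0, 0], [0, 0, 0, 0, 4, 0], [0, 0, 0, 0, 0, 0]]⟩]⟩,
    ⟨39, [[-28, 6, -11, -6, -4, -8], [-3, -30, 3, -9, -6, -12], [14, -3, -14, 3, 2, 4], [-4, 12, 4, -12, 5, 10], [2, -6, -2,
      6, -22, -5], [-1, 3, 1, -3, 11, -17]], 12, [0, 1, 2, 3, 4, 5, 6, 7, 8, 9, 10, 11, 12, 13, 14, 15, 16, 17, 18, 19, 20,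
      21, 22, 23, 24, 25, 26, 27, 28, 29, 30, 31, 32, 33, 34, 35], [⟨3, [5], [[1, 0, 1, 1, 1, 1]], [[0, 1, 2, 2, 1, 0], [1,
      2, 2, 0, 0, 0], [0, 1, 0, 2, 1, 0], [2, 0, 1, 0, 1, 0], [2, 0, 1, 0, 2, 0], [0, 0, 0, 0, 0, 0]]⟩, ⟨13, [5], [[2, 3,
      12, 4, 11, 1]], [[10, 7, 2, 6, 12, 0], [3, 3, 10, 9, 5, 0], [8, 3, 5, 10, 7, 0], [6, 8, 7, 5, 11, 0], [10, 9, 3, 4, 7,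
      0], [0, 0, 0, 0, 0, 0]]⟩]⟩,
    ⟨57, [[-46, -18, -11, -24, -34, -14], [2, -24, -2, 6, -1, 13], [23, 9, -23, 12, 17, 7], [-10, 6, 10, -30, 5, -8], [5,
      -3, -5, 15, -31, 4], [-4, -9, 4, -12, 2, -26]], 18, [0, 1, 2, 3, 4, 5, 6, 7, 8, 9, 10, 11, 12, 13, 14, 15, 16, 17, 18,
      19, 20, 21, 22, 23, 24, 25, 26, 27, 28, 29, 30, 31, 32, 33, 34, 35], [⟨3, [5], [[1, 1, 1, 1, 1, 1]], [[2, 0, 0, 2, 1,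
      0], [0, 1, 0, 0, 0, 0], [2, 0, 1, 2, 1, 0], [1, 2, 2, 0, 1, 0], [1, 2, 2, 0, 2, 0], [0, 0, 0, 0, 0, 0]]⟩, ⟨19, [5],
      [[2, 9, 18, 12, 13, 1]], [[8, 10, 10, 7, 14, 0], [0, 9, 0, 0, 0, 0], [15, 14, 4, 6, 12, 0], [13, 6, 6, 1, 3, 0], [3,
      16, 16, 9, 17, 0], [0, 0, 0, 0, 0, 0]]⟩]⟩,
    ⟨21, [[-13, -3, -8, -12, -10, -5], [-1, -18, 1, -9, -4, -2], [4, 9, -4, 15, 16, 8], [-1, 3, 1, -9, -4, -2], [2, -6, -2,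
      -3, -13, 4], [0, 0, 0, 0, 0, -21]], 6, [0, 3, 12, 16, 33, 34], [⟨3, [4], [[1, 1, 2, 1, 1, 0]], [[1, 1, 1, 0, 1, 0],
      [0, 2, 0, 1, 1, 0], [0, 1, 0, 1, 2, 0], [0, 0, 0, 1, 1, 0], [0, 0, 0, 0, 0, 0], [2, 0, 1, 0, 2, 0]]⟩, ⟨7, [4], [[4, 3,
      2, 3, 1, 0]], [[3, 3, 3, 1, 4, 0], [0, 6, 0, 3, 3, 0], [0, 1, 0, 1, 2, 0], [0, 0, 0, 3, 3, 0], [0, 0, 0, 0, 0, 0], [4,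
      2, 3, 1, 2, 0]]⟩]⟩,
    ⟨147, [[-91, -21, -56, -84, -70, -35], [-7, -63, 7, 0, 35, 7], [28, 0, -28, 42, 49, 35], [-7, 21, 7, -63, -28, -14],
      [14, -21, -14, 0, -70, -14], [0, 21, 0, 21, 21, -42]], 6, [0, 1, 2, 3, 4, 5, 6, 7, 8, 9, 10, 11, 12, 13, 14, 15, 16,
      17, 18, 19, 20, 21, 22, 23, 24, 25, 26, 27, 28, 29, 30, 31, 32, 33, 34, 35], [⟨3, [4], [[1, 1, 2, 1, 1, 0]], [[0, 0,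
      2, 2, 2, 0], [0, 1, 0, 0, 0, 0], [0, 2, 0, 2, 0, 0], [2, 2, 1, 0, 2, 0], [0, 0, 0, 0, 0, 0], [1, 1, 2, 1, 2, 0]]⟩, ⟨7,
      [4, 5], [[4, 3, 2, 3, 1, 0], [3, 0, 2, 4, 0, 1]], [[5, 6, 1, 0, 0, 0], [0, 3, 0, 0, 0, 0], [6, 6, 1, 1, 0, 0], [5, 4,
      2, 4, 0, 0], [0, 0, 0, 0, 0, 0], [0, 0, 0, 0, 0, 0]]⟩]⟩,
    ⟨27, [[-18, 0, -9, 0, 0, 0], [-9, -27, -18, -27, -18, -9], [9, 0, -9, 0, 0, 0], [0, 9, 9, 0, 9, 9], [0, 0, 0, 0, -18,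
      -9], [0, 0, 0, 0, 9, -9]], 6, [0, 1, 2, 3, 4, 5, 6, 7, 8, 9, 10, 11, 12, 13, 14, 15, 16, 17, 18, 19, 20, 21, 22, 23,
      24, 25, 26, 27, 28, 29, 30, 31, 32, 33, 34, 35], [⟨3, [2, 3, 5], [[1, 2, 1, 0, 0, 0], [0, 0, 0, 1, 0, 0], [0, 1, 0, 0,
      1, 1]], [[2, 0, 0, 0, 0, 0], [1, 1, 0, 2, 0, 0], [0, 0, 0, 0, 0, 0], [0, 0, 0, 0, 0, 0], [2, 2, 0, 0, 0, 0], [0, 0, 0,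
      0, 0, 0]]⟩]⟩]

/-- bad cases of `E₆(2)` -/
def badP (i ℓ : ℕ) (P : List ℕ) : Bool :=
  (i == 5 && ℓ == 3 && P.length == 9) || (i == 6 && ℓ == 5 && P.length == 6) || (i == 7 && ℓ == 31 && P.length == 1) ||
    (i == 20 && ℓ == 13 && P.length == 0) || (i == 14 && ℓ == 17 && P.length == 0) || (i == 21 && ℓ == 73 && P.length == 0)

/-- bad cases of `²E₆(2)` -/
def badN (i ℓ : ℕ) (P : List ℕ) : Bool :=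
  (i == 5 && ℓ == 3 && P.length == 9) || (i == 17 && ℓ == 3 && P.length == 9) || (i == 19 && ℓ == 5 && P.length == 6) ||
    (i == 11 && ℓ == 7 && P.length == 6) || (i == 15 && ℓ == 11 && P.length == 1) ||
    (i == 20 && ℓ == 13 && P.length == 0) || (i == 14 && ℓ == 17 && P.length == 0) || (i == 21 && ℓ == 19 && P.length == 0)

theorem chkP_all : ((List.range dat.reps.length).all fun i =>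
    chkCl dat 2 ((dat.R i).map (vsm 1)) (badP i) (clsP.getD i ⟨1, [], 1, [], []⟩)) = true := by decide +kernel

theorem chkN_all : ((List.range dat.reps.length).all fun i =>
    chkCl dat 2 ((dat.R i).map (vsm (-1))) (badN i) (clsN.getD i ⟨1, [], 1, [], []⟩)) = true := by decide +kernel

theorem chkD_dat : chkD dat = true := by decide +kernel

end Cfsg.Agent.H106.QT
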